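import Groth.Agent.HopfRedSq.Basic
import Mathlib

/-!
# Cartier's theorem for commutative Hopf algebras in characteristic zero
-/

universe u v

open TensorProduct

noncomputable section

namespace Groth.Agent.HopfCartier

variable {k : Type u} [Field k] {A : Type v} [CommRing A] [HopfAlgebra k A]

/-- The translation invariant operator of a functional. -/
def invOp (d : A →ₗ[k] k) : A →ₗ[k] A :=
  (TensorProduct.rid k A).toLinearMap ∘ₗ d.lTensor A ∘ₗ Coalgebra.comul

theorem invOp_mul (d : A →ₗ[k] k)
    (hd : ∀ a b, d (a * b) = Coalgebra.counit (R := k) a * d b + Coalgebra.counit (R := k) b * d a)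
    (x y : A) : invOp d (x * y) = x * invOp d y + y * invOp d x := by
  let P : A ⊗[k] A →ₗ[k] A :=
    (TensorProduct.rid k A).toLinearMap ∘ₗ (Coalgebra.counit (R := k) (A := A)).lTensor A
  let L : A ⊗[k] A →ₗ[k] A := (TensorProduct.rid k A).toLinearMap ∘ₗ d.lTensor A
  have key : ∀ s t : A ⊗[k] A, L (s * t) = P s * L t + P t * L s := by
    intro s t
    induction s using TensorProduct.induction_on with
    | zero => simp
    | add s s' hs hs' => simp only [add_mul, map_add, hs, hs']; ring
    | tmul a b =>
      induction t using TensorProduct.induction_on with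
      | zero => simp
      | add t t' ht ht' => simp only [mul_add, map_add, ht, ht']; ring
      | tmul c e =>
        simp only [L, P, LinearMap.comp_apply, LinearEquiv.coe_coe, LinearMap.lTensor_tmul,
          TensorProduct.rid_tmul, Algebra.TensorProduct.tmul_mul_tmul, hd, Algebra.smul_def,
          map_add, map_mul]
        ring
  have hP : ∀ a : A, P (Coalgebra.comul (R := k) a) = a := fun a => by
    simp [P, Coalgebra.lTensor_counit_comul]
  show L (Coalgebra.comul (R := k) (x * y)) = _
  rw [Bialgebra.comul_mul, key, hP, hP]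
  rfl

theorem counit_invOp (d : A →ₗ[k] k) (a : A) :
    Coalgebra.counit (R := k) (invOp d a) = d a := by
  have h1 : Coalgebra.counit (R := k) ∘ₗ invOp d = d ∘ₗ
      ((TensorProduct.lid k A).toLinearMap ∘ₗ
        (Coalgebra.counit (R := k) (A := A)).rTensor A ∘ₗ Coalgebra.comul) := by
    have : Coalgebra.counit (R := k) ∘ₗ (TensorProduct.rid k A).toLinearMap ∘ₗ d.lTensor A =
        d ∘ₗ (TensorProduct.lid k A).toLinearMap ∘ₗ (Coalgebra.counit (R := k) (A := A)).rTensor A := by
      ext x y
      simp [mul_comm]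
    simpa only [invOp, ← LinearMap.comp_assoc] using congrArg (· ∘ₗ Coalgebra.comul (R := k) (A := A)) this
  refine (LinearMap.congr_fun h1 a).trans ?_
  simp [Coalgebra.rTensor_counit_comul]

variable [CharZero k]

/-- In characteristic zero nilpotent elements vanish to second order at the unit. -/
theorem nilradical_le_sq :
    nilradical A ≤ RingHom.ker (Bialgebra.counitAlgHom k A) ^ 2 := by
  intro n hn
  set I := RingHom.ker (Bialgebra.counitAlgHom k A) with hI
  by_contra hnI
  have hne : Ideal.Quotient.mk (I ^ 2) n ≠ 0 := fun h => hnI (Ideal.Quotient.eq_zero_iff_mem.mp h)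
  obtain ⟨φ, hφ⟩ : ∃ φ : (A ⧸ I ^ 2) →ₗ[k] k, φ (Ideal.Quotient.mk _ n) = 1 := by
    obtain ⟨φ, hφ⟩ := LinearMap.exists_leftInverse_of_injective
      (LinearMap.toSpanSingleton k (A ⧸ I ^ 2) (Ideal.Quotient.mk _ n))
      (LinearMap.ker_toSpanSingleton k hne)
    exact ⟨φ, by simpa using LinearMap.congr_fun hφ 1⟩
  let d : A →ₗ[k] k := φ ∘ₗ (Ideal.Quotient.mkₐ k (I ^ 2)).toLinearMap ∘ₗ
    (LinearMap.id - Algebra.linearMap k A ∘ₗ Coalgebra.counit)
  have hmem : ∀ a, a - algebraMap k A (Coalgebra.counit (R := k) a) ∈ I := fun a => by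
    simp [hI, RingHom.mem_ker]
  have hd : ∀ a b, d (a * b) =
      Coalgebra.counit (R := k) a * d b + Coalgebra.counit (R := k) b * d a := by
    intro a b
    have h2 : Ideal.Quotient.mk (I ^ 2)
        ((a - algebraMap k A (Coalgebra.counit (R := k) a)) *
          (b - algebraMap k A (Coalgebra.counit (R := k) b))) = 0 :=
      Ideal.Quotient.eq_zero_iff_mem.mpr (pow_two I ▸ Ideal.mul_mem_mul (hmem a) (hmem b))
    simp only [d, LinearMap.comp_apply, LinearMap.sub_apply, LinearMap.id_apply,
      Algebra.linearMap_apply, AlgHom.toLinearMap_apply, Ideal.Quotient.mkₐ_eq_mk,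
      Bialgebra.counit_mul, map_mul]
    rw [← smul_eq_mul (Coalgebra.counit (R := k) a), ← smul_eq_mul (Coalgebra.counit (R := k) b),
      ← φ.map_smul, ← φ.map_smul, ← φ.map_add]
    congr 1
    rw [Algebra.smul_def (R := k) (A := A ⧸ I ^ 2), Algebra.smul_def (R := k) (A := A ⧸ I ^ 2),
      IsScalarTower.algebraMap_apply k A (A ⧸ I ^ 2), IsScalarTower.algebraMap_apply k A (A ⧸ I ^ 2),
      Ideal.Quotient.algebraMap_eq]
    simp only [map_sub, map_mul] at h2 ⊢
    linear_combination h2
  have hεn : Coalgebra.counit (R := k) n = 0 := by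
    obtain ⟨m, hm⟩ := mem_nilradical.mp hn
    have h := congrArg (Bialgebra.counitAlgHom k A) hm
    rw [map_pow, map_zero] at h
    exact eq_zero_of_pow_eq_zero h
  have hεD : Coalgebra.counit (R := k) (invOp d n) = 1 := by
    rw [counit_invOp]
    simp [d, hεn, hφ]
  obtain ⟨N, hN⟩ := mem_nilradical.mp hn
  have key : ∀ M : ℕ, ∀ c : A, Coalgebra.counit (R := k) c ≠ 0 → c * n ^ M ≠ 0 := by
    intro M
    induction M with
    | zero =>
      intro c hc h
      rw [pow_zero, mul_one] at h
      exact hc (by rw [h, map_zero])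
    | succ M ih =>
      intro c hc h
      have hpow : ∀ j : ℕ, invOp d (n ^ (j + 1)) = ((j + 1 : ℕ) : A) * n ^ j * invOp d n := by
        intro j
        induction j with
        | zero => simp
        | succ j hj =>
          rw [pow_succ n (j + 1), invOp_mul d hd, hj]
          push_cast
          ring
      have h0 := congrArg (invOp d) h
      rw [invOp_mul d hd, hpow, map_zero] at h0
      refine ih (c * c * ((M + 1 : ℕ) : A) * invOp d n) ?_ ?_
      · rw [Bialgebra.counit_mul, Bialgebra.counit_mul, Bialgebra.counit_mul, hεD,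
          Bialgebra.counit_natCast, mul_one]
        exact mul_ne_zero (mul_ne_zero hc hc) (by exact_mod_cast M.succ_ne_zero)
      · linear_combination c * h0 - invOp d c * h
  exact key N 1 (by simp) (by rw [hN, mul_zero])

omit [Field k] [HopfAlgebra k A] [CharZero k] in
theorem isReduced_algClosed {k : Type u} [Field k] [CharZero k] [IsAlgClosed k] {A : Type v}
    [CommRing A] [HopfAlgebra k A] [Algebra.FiniteType k A] : IsReduced A :=
  Groth.Agent.HopfRedSq.isReduced (nilradical_le_sq (k := k) (A := A))

/-- Cartier's theorem. -/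
theorem isReduced [Algebra.FiniteType k A] : IsReduced A := by
  let K := AlgebraicClosure k
  have : CharZero K := charZero_of_injective_algebraMap (algebraMap k K).injective
  have h : IsReduced (K ⊗[k] A) := isReduced_algClosed (k := K)
  exact isReduced_of_injective (Algebra.TensorProduct.includeRight : A →ₐ[k] K ⊗[k] A)
    (Algebra.TensorProduct.includeRight_injective (algebraMap k K).injective)

/-- Hopf ideals with the same geometric points are equal in characteristic zero. -/
theorem hopfIdeal_eq [Algebra.FiniteType k A] (I I' : Ideal A) [I.IsHopfIdeal k] [I'.IsHopfIdeal k]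
    (h : ∀ g : A →ₐ[k] AlgebraicClosure k, I ≤ RingHom.ker g ↔ I' ≤ RingHom.ker g) : I = I' := by
  have : IsJacobsonRing A := isJacobsonRing_of_finiteType (A := k)
  suffices ∀ (J J' : Ideal A) [J.IsHopfIdeal k],
      (∀ g : A →ₐ[k] AlgebraicClosure k, J ≤ RingHom.ker g → J' ≤ RingHom.ker g) → J' ≤ J from
    le_antisymm (this I' I fun g => (h g).mpr) (this I I' fun g => (h g).mp)
  intro J J' _ hJ
  have : Algebra.FiniteType k (A ⧸ J) :=
    .of_surjective (Ideal.Quotient.mkₐ k J) Ideal.Quotient.mk_surjective
  have hred : IsReduced (A ⧸ J) := isReduced (k := k)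
  have hrad : J.IsRadical := (Ideal.isRadical_iff_quotient_reduced J).mpr hred
  rw [← show J.jacobson = J from IsJacobsonRing.out inferInstance hrad, Ideal.jacobson]
  refine le_sInf ?_
  rintro M ⟨hJM, hM⟩
  letI : Field (A ⧸ M) := Ideal.Quotient.field M
  have : Algebra.FiniteType k (A ⧸ M) :=
    .of_surjective (Ideal.Quotient.mkₐ k M) Ideal.Quotient.mk_surjective
  have : Module.Finite k (A ⧸ M) := finite_of_finite_type_of_isJacobsonRing k (A ⧸ M)
  let i : (A ⧸ M) →ₐ[k] AlgebraicClosure k := IsAlgClosed.lift
  have hker : RingHom.ker (i.comp (Ideal.Quotient.mkₐ k M)) = M := by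
    ext a
    rw [RingHom.mem_ker, AlgHom.comp_apply, map_eq_zero_iff i i.injective, Ideal.Quotient.mkₐ_eq_mk,
      Ideal.Quotient.eq_zero_iff_mem]
  have := hJ (i.comp (Ideal.Quotient.mkₐ k M)) (by rw [hker]; exact hJM)
  rwa [hker] at this

end Groth.Agent.HopfCartier
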